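import Groth.Agent.QCohLib.Exact
import Mathlib.AlgebraicGeometry.Noetherian

/-!
# Finite type and finite presentation for quasi-coherent modules
-/

universe u

open CategoryTheory Limits Opposite TopologicalSpace AlgebraicGeometry
open Groth.Agent.CohBase

namespace Groth.Agent.QCohLib

variable {X : Scheme.{u}}

lemma sc_le_rfl {M : X.Modules} {W : X.Opens} (a : Γ(X, W)) (s : Γ(M, W)) :
    sc a le_rfl s = a • s := by
  rw [sc_apply]
  have h : X.presheaf.map (homOfLE (le_refl W)).op a = a := by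
    rw [show (homOfLE (le_refl W)).op = 𝟙 (op W) from rfl, X.presheaf.map_id]
    rfl
  rw [h]

/-- Sections on an affine open as sections of the restriction to the spectrum. -/
noncomputable def topEquiv (M : X.Modules) {W : X.Opens} (hW : IsAffineOpen W) :
    Γ(M.restrict hW.fromSpec, ⊤) ≃ₗ[Γ(X, W)] Γ(M, W) :=
  have htop : hW.fromSpec ''ᵁ (⊤ : (Spec Γ(X, W)).Opens) = W := by
    rw [Scheme.Hom.image_top_eq_opensRange, hW.opensRange_fromSpec]
  { toFun := fun x => M.presheaf.map (homOfLE htop.ge).op ((M.restrictAppIso hW.fromSpec ⊤).hom x)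
    invFun := fun y => (M.restrictAppIso hW.fromSpec ⊤).inv (M.presheaf.map (homOfLE htop.le).op y)
    map_add' := fun x y => by simp [map_add]
    map_smul' := fun a x => by
      rw [restrict_smul hW M _ htop.le, map_sc, ← sc_le_rfl]
      rfl
    left_inv := fun x => by
      simp only
      rw [restr_trans, restr_self, Iso.hom_inv_id_apply]
    right_inv := fun y => by
      simp only
      rw [Iso.inv_hom_id_apply, restr_trans, restr_self] }

lemma finite_of_generatingSections {R : CommRingCat.{u}} (N : (Spec R).Modules)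
    [hN : IsIso N.fromTildeΓ]
    (G : SheafOfModules.GeneratingSections (R := (Spec R).ringCatSheaf) N) [G.IsFiniteType] :
    Module.Finite R Γ(N, ⊤) := by
  let P := (modulesSpecToSheaf.obj N).presheaf.obj (op ⊤)
  haveI : Epi (C := (Spec R).Modules) G.π := G.epi
  haveI : Epi (C := (Spec R).Modules) (G.π ≫ inv N.fromTildeΓ) :=
    @epi_comp (Spec R).Modules _ _ _ _ G.π inferInstance (inv N.fromTildeΓ) inferInstance
  let g : tilde (ModuleCat.of R (G.I →₀ R)) ⟶ tilde P :=
    (tildeFinsupp G.I).hom ≫ G.π ≫ inv N.fromTildeΓ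
  have hg : Epi g := @epi_comp (Spec R).Modules _ _ _ _ (tildeFinsupp G.I).hom
    (@IsIso.epi_of_iso (Spec R).Modules _ _ _ _ (tildeFinsupp G.I).isIso_hom) _ inferInstance
  obtain ⟨h, hh⟩ := (tilde.functor R).map_surjective g
  haveI : Epi ((tilde.functor R).map h) := by rw [hh]; exact hg
  have hepi : Epi h := (tilde.functor R).epi_of_epi_map inferInstance
  have hs : Function.Surjective h := (ModuleCat.epi_iff_surjective h).mp hepi
  exact Module.Finite.of_surjective h.hom hs

/-- A linear map to the global sections as a map of modules. -/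
noncomputable def toTopHom {R : CommRingCat.{u}} (N : (Spec R).Modules) {I : Type u}
    (ψ : (I →₀ R) →ₗ[R] Γ(N, ⊤)) :
    ModuleCat.of R (I →₀ R) ⟶ (modulesSpecToSheaf.obj N).presheaf.obj (op ⊤) :=
  (ModuleCat.ofHom ψ :)

/-- Generators of an epimorphism from a free module on a spectrum. -/
noncomputable def generatingSectionsOfFinite {R : CommRingCat.{u}} (N : (Spec R).Modules)
    [IsIso N.fromTildeΓ] {I : Type u} (ψ : (I →₀ R) →ₗ[R] Γ(N, ⊤)) (hψ : Function.Surjective ψ) :
    SheafOfModules.GeneratingSections (R := (Spec R).ringCatSheaf) N where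
  I := I
  s := SheafOfModules.freeHomEquiv N ((tildeFinsupp I).inv ≫ tilde.map (toTopHom N ψ) ≫ N.fromTildeΓ)
  epi := by
    rw [Equiv.symm_apply_apply]
    let h := toTopHom N ψ
    haveI : Epi h := (ModuleCat.epi_iff_surjective h).mpr hψ
    haveI : Epi (tilde.map h) := (tilde.functor R).map_epi h
    haveI : Epi (tilde.map h ≫ N.fromTildeΓ) := epi_comp _ _
    exact @epi_comp (Spec R).Modules _ _ _ _ (tildeFinsupp I).inv inferInstance _ inferInstance

set_option backward.isDefEq.respectTransparency false in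
lemma finite_of_generators_over (M : X.Modules) [Coh.IsQCoh M] (U : X.Opens)
    (G : (SheafOfModules.over (R := X.ringCatSheaf) M U).GeneratingSections) [G.IsFiniteType]
    {V : X.Opens} (hV : IsAffineOpen V) (hVU : V ≤ U) :
    Module.Finite Γ(X, V) Γ(M, V) := by
  let e := Scheme.Modules.overEquiv U
  let η : e.functor.obj (SheafOfModules.unit (X.ringCatSheaf.over U)) ≅
      SheafOfModules.unit (U : Scheme.{u}).ringCatSheaf :=
    (Scheme.Modules.overFunctorEquiv U).app (SheafOfModules.unit X.ringCatSheaf) ≪≫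
      Scheme.Modules.restrictUnitIso U.ι
  let G₁ : SheafOfModules.GeneratingSections (R := (U : Scheme.{u}).ringCatSheaf) (M.restrict U.ι) :=
    (G.map e.functor η.symm).ofEpi ((Scheme.Modules.overFunctorEquiv U).app M).hom
  haveI : G₁.IsFiniteType := ⟨inferInstanceAs (Finite G.I)⟩
  let v : Spec Γ(X, V) ⟶ (U : Scheme.{u}) := hV.isoSpec.inv ≫ X.homOfLE hVU
  haveI : PreservesColimitsOfSize.{u, u} (Scheme.Modules.restrictFunctor v) :=
    (Scheme.Modules.restrictAdjunction v).leftAdjoint_preservesColimits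
  let iso := ((Scheme.Modules.restrictFunctorComp v U.ι).symm ≪≫
    Scheme.Modules.restrictFunctorCongr (g := hV.fromSpec)
      (show v ≫ U.ι = hV.fromSpec by simp [v, IsAffineOpen.isoSpec_inv_ι])).app M
  let G₂ : SheafOfModules.GeneratingSections (R := (Spec Γ(X, V)).ringCatSheaf)
      (M.restrict hV.fromSpec) :=
    (G₁.map (Scheme.Modules.restrictFunctor v) (Scheme.Modules.restrictUnitIso v).symm).ofEpi iso.hom
  haveI : G₂.IsFiniteType := ⟨inferInstanceAs (Finite G₁.I)⟩
  have hiso : IsIso (M.restrict hV.fromSpec).fromTildeΓ :=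
    (isIso_fromTildeΓ_iff_isLocalizing _).mpr (isLocalizing_restrict M hV)
  haveI := finite_of_generatingSections _ (hN := hiso) G₂
  exact Module.Finite.equiv (topEquiv M hV)

/-- Finiteness of sections is local. -/
lemma finite_of_basicOpen_cover (M : X.Modules) [Coh.IsQCoh M] {W : X.Opens} (hW : IsAffineOpen W)
    {ι : Type*} [Fintype ι] (g : ι → Γ(X, W)) (hg : Ideal.span (Set.range g) = ⊤)
    (h : ∀ k, Module.Finite Γ(X, X.basicOpen (g k)) Γ(M, X.basicOpen (g k))) :
    Module.Finite Γ(X, W) Γ(M, W) := by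
  classical
  have hl := locAt M hW
  choose gens hgens using fun k => (h k).fg_top
  choose n p hp using fun k (t : ↥(gens k)) => hl.extend (g k) t.1
  let T : Finset Γ(M, W) := Finset.univ.biUnion fun k => Finset.univ.image (p k)
  refine ⟨⟨T, eq_top_iff.mpr fun m _ => ?_⟩⟩
  let S := Submodule.span Γ(X, W) (T : Set Γ(M, W))
  have key : ∀ k, ∃ L : ℕ, g k ^ L • m ∈ S := by
    intro k
    let r : Γ(M, W) →+ Γ(M, X.basicOpen (g k)) := (M.presheaf.map (homOfLE (X.basicOpen_le (g k))).op).hom
    have hpow : ∀ (z : Γ(M, X.basicOpen (g k))), z ∈ Submodule.span Γ(X, X.basicOpen (g k))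
        ((gens k : Set Γ(M, X.basicOpen (g k)))) →
        ∃ (N : ℕ) (w : Γ(M, W)), w ∈ S ∧ r w = sc (g k ^ N) (X.basicOpen_le (g k)) z := by
      intro z hz
      induction hz using Submodule.span_induction with
      | mem z hz =>
        exact ⟨n k ⟨z, hz⟩, p k ⟨z, hz⟩, Submodule.subset_span (Finset.mem_biUnion.mpr
          ⟨k, Finset.mem_univ _, Finset.mem_image_of_mem _ (Finset.mem_univ _)⟩), hp k ⟨z, hz⟩⟩
      | zero => exact ⟨0, 0, S.zero_mem, by rw [map_zero, map_zero]⟩
      | add y z _ _ hy hz =>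
        obtain ⟨N, w, hw, hwy⟩ := hy
        obtain ⟨N', w', hw', hwz⟩ := hz
        refine ⟨N + N', g k ^ N' • w + g k ^ N • w', S.add_mem (S.smul_mem _ hw) (S.smul_mem _ hw'),
          ?_⟩
        change M.presheaf.map _ _ = _
        rw [map_add, ← sc_le_rfl, ← sc_le_rfl, map_sc, map_sc]
        erw [hwy, hwz]
        rw [map_add, ← sc_mul, ← sc_mul, ← pow_add, ← pow_add, add_comm N' N]
      | smul a z _ hz =>
        obtain ⟨N, w, hw, hwz⟩ := hz
        haveI := hW.isLocalization_basicOpen (g k)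
        obtain ⟨⟨b, ⟨_, N', rfl⟩⟩, hb⟩ := IsLocalization.surj (Submonoid.powers (g k)) a
        refine ⟨N' + N, b • w, S.smul_mem _ hw, ?_⟩
        change M.presheaf.map _ _ = _
        rw [← sc_le_rfl, map_sc]
        erw [hwz]
        have hb' : a * X.presheaf.map (homOfLE (X.basicOpen_le (g k))).op (g k ^ N') =
            X.presheaf.map (homOfLE (X.basicOpen_le (g k))).op b := hb
        simp only [sc_apply, ← mul_smul, ← hb', map_mul, pow_add]
        congr 1
        ring
    obtain ⟨N, w, hw, hwm⟩ := hpow (r m) (by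
      rw [hgens k]; exact Submodule.mem_top)
    obtain ⟨L, hL⟩ := hl.kill (g k) (g k ^ N • m - w) (by
      rw [map_sub, ← sc_le_rfl, map_sc]
      erw [hwm]
      exact sub_self _)
    refine ⟨L + N, ?_⟩
    rw [sc_le_rfl, smul_sub, sub_eq_zero] at hL
    rw [pow_add, mul_smul, hL]
    exact S.smul_mem _ hw
  choose L hL using key
  exact Submodule.mem_of_span_eq_top_of_smul_pow_mem S (Set.range g) hg m
    (fun r => by obtain ⟨_, k, rfl⟩ := r; exact ⟨L k, hL k⟩)

/-- A quasi-coherent module of finite type has finite sections on affine opens. -/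
theorem finite_sections (M : X.Modules) [Coh.IsQCoh M]
    (hM : SheafOfModules.IsFiniteType (R := X.ringCatSheaf) M) {W : X.Opens} (hW : IsAffineOpen W) :
    Module.Finite Γ(X, W) Γ(M, W) := by
  classical
  obtain ⟨σ, hσ⟩ := hM.exists_localGeneratorsData
  have hcov : ⨆ i, σ.X i = ⊤ := by
    have h := σ.coversTop
    rw [Opens.coversTop_iff, IsOpenCover] at h
    exact h
  have : ∀ x : ↥W, ∃ (f : Γ(X, W)) (i : σ.I), X.basicOpen f ≤ σ.X i ∧ x.1 ∈ X.basicOpen f := by
    intro x
    obtain ⟨i, hi⟩ := Opens.mem_iSup.mp (hcov.ge (Set.mem_univ x.1) : x.1 ∈ ⨆ i, σ.X i)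
    obtain ⟨f, hf, hxf⟩ := hW.exists_basicOpen_le ⟨x.1, hi⟩ x.2
    exact ⟨f, i, hf, hxf⟩
  choose f i hf hx using this
  obtain ⟨s, hs⟩ := hW.isCompact.elim_finite_subcover (fun x => (X.basicOpen (f x) : Set X))
    (fun x => (X.basicOpen (f x)).isOpen) fun x hx' => Set.mem_iUnion.mpr ⟨⟨x, hx'⟩, hx _⟩
  refine finite_of_basicOpen_cover M hW (fun a : ↥s => f a.1) ?_ fun a => ?_
  · rw [← hW.self_le_iSup_basicOpen_iff]
    intro x hx'
    obtain ⟨y, hy, hxy⟩ := Set.mem_iUnion₂.mp (hs hx')
    exact Opens.mem_iSup.mpr ⟨⟨f y, ⟨y, hy⟩, rfl⟩, hxy⟩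
  · haveI := hσ.isFiniteType (i a.1)
    exact finite_of_generators_over M (σ.X (i a.1)) (σ.generators (i a.1)) (hW.basicOpen _) (hf a.1)

set_option backward.isDefEq.respectTransparency false in
/-- Finite sections on an affine cover give finite type. -/
theorem isFiniteType_of_finite (M : X.Modules) [Coh.IsQCoh M] {ι : Type u} (W : ι → X.Opens)
    (hW : ∀ a, IsAffineOpen (W a)) (hcov : ⨆ a, W a = ⊤)
    (h : ∀ a, Module.Finite Γ(X, W a) Γ(M, W a)) :
    SheafOfModules.IsFiniteType (R := X.ringCatSheaf) M := by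
  have hiso : ∀ a, IsIso (M.restrict (hW a).fromSpec).fromTildeΓ := fun a =>
    (isIso_fromTildeΓ_iff_isLocalizing _).mpr (isLocalizing_restrict M (hW a))
  have : ∀ a, ∃ G : (SheafOfModules.over (R := X.ringCatSheaf) M (W a)).GeneratingSections,
      G.IsFiniteType := by
    intro a
    haveI := hiso a
    haveI := h a
    haveI : Module.Finite Γ(X, W a) Γ(M.restrict (hW a).fromSpec, ⊤) :=
      Module.Finite.equiv (topEquiv M (hW a)).symm
    obtain ⟨m, φ, hφ⟩ := Module.Finite.exists_fin' Γ(X, W a) Γ(M.restrict (hW a).fromSpec, ⊤)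
    let eI : (ULift.{u} (Fin m) →₀ Γ(X, W a)) ≃ₗ[Γ(X, W a)] (Fin m → Γ(X, W a)) :=
      (Finsupp.domLCongr Equiv.ulift).trans (Finsupp.linearEquivFunOnFinite _ _ _)
    let G₂ := generatingSectionsOfFinite _ (φ.comp eI.toLinearMap) (hφ.comp eI.surjective)
    haveI : PreservesColimitsOfSize.{u, u} (Scheme.Modules.restrictFunctor (hW a).isoSpec.hom) :=
      (Scheme.Modules.restrictAdjunction (hW a).isoSpec.hom).leftAdjoint_preservesColimits
    let iso := ((Scheme.Modules.restrictFunctorComp (hW a).isoSpec.hom (hW a).fromSpec).symm ≪≫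
      Scheme.Modules.restrictFunctorCongr (hW a).isoSpec_hom_fromSpec).app M
    let G₁ : SheafOfModules.GeneratingSections (R := (W a : Scheme.{u}).ringCatSheaf)
        (M.restrict (W a).ι) :=
      (G₂.map (Scheme.Modules.restrictFunctor (hW a).isoSpec.hom)
        (Scheme.Modules.restrictUnitIso _).symm).ofEpi iso.hom
    let e := Scheme.Modules.overEquiv (W a)
    let η : e.functor.obj (SheafOfModules.unit (X.ringCatSheaf.over (W a))) ≅
        SheafOfModules.unit (W a : Scheme.{u}).ringCatSheaf :=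
      (Scheme.Modules.overFunctorEquiv (W a)).app (SheafOfModules.unit X.ringCatSheaf) ≪≫
        Scheme.Modules.restrictUnitIso (W a).ι
    exact ⟨(G₁.map e.inverse (e.unitIso.app _ ≪≫ e.inverse.mapIso η)).ofEpi
      (e.inverse.mapIso ((Scheme.Modules.overFunctorEquiv (W a)).app M).symm ≪≫
        (e.unitIso.app _).symm).hom, ⟨inferInstanceAs (Finite (ULift.{u} (Fin m)))⟩⟩
  choose G hG using this
  let σ : SheafOfModules.LocalGeneratorsData.{u} (R := X.ringCatSheaf) M :=
    { I := ι
      X := W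
      coversTop := by rw [Opens.coversTop_iff, IsOpenCover]; exact hcov
      generators := G }
  constructor
  refine ⟨σ, ?_⟩
  constructor
  exact fun a => hG a

lemma isNoetherianRing_section [IsLocallyNoetherian X] {W : X.Opens} (hW : IsAffineOpen W) :
    IsNoetherianRing Γ(X, W) :=
  IsLocallyNoetherian.component_noetherian ⟨W, hW⟩

lemma exists_finite_presentation {R : CommRingCat.{u}} [IsNoetherianRing R] (N : (Spec R).Modules)
    [IsIso N.fromTildeΓ] [hfin : Module.Finite R Γ(N, ⊤)] :
    ∃ P : SheafOfModules.Presentation.{u, u, u} (R := (Spec R).ringCatSheaf) N, P.IsFinite := by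
  classical
  obtain ⟨s, hs⟩ := hfin.fg_top
  let lc : ((s : Set Γ(N, ⊤)) →₀ R) →ₗ[R] Γ(N, ⊤) := Finsupp.linearCombination R (↑)
  obtain ⟨t, ht⟩ := IsNoetherian.noetherian (LinearMap.ker lc)
  let P₀ := presentationTilde.{u} ((modulesSpecToSheaf.obj N).presheaf.obj (op ⊤)) (s : Set Γ(N, ⊤))
    hs (t : Set ((s : Set Γ(N, ⊤)) →₀ R)) ht
  haveI : P₀.IsFinite := ⟨⟨inferInstanceAs (Finite (s : Set Γ(N, ⊤)))⟩,
    ⟨inferInstanceAs (Finite (t : Set ((s : Set Γ(N, ⊤)) →₀ R)))⟩⟩
  exact ⟨SheafOfModules.Presentation.ofIsIso.{u, u, u} (asIso N.fromTildeΓ).hom P₀, inferInstance⟩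

set_option backward.isDefEq.respectTransparency false in
/-- On locally Noetherian schemes coherent modules are finitely presented. -/
theorem isFP_of_isCoh [IsLocallyNoetherian X] (M : X.Modules) (hM : Coh.IsCoh M) :
    SheafOfModules.IsFinitePresentation (R := X.ringCatSheaf) M := by
  haveI := hM.1
  let W : X.affineOpens → X.Opens := fun a => a.1
  have hW : ∀ a, IsAffineOpen (W a) := fun a => a.2
  have : ∀ a, ∃ P : (SheafOfModules.over (R := X.ringCatSheaf) M (W a)).Presentation,
      P.IsFinite := by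
    intro a
    haveI : IsIso (M.restrict (hW a).fromSpec).fromTildeΓ :=
      (isIso_fromTildeΓ_iff_isLocalizing _).mpr (isLocalizing_restrict M (hW a))
    haveI := isNoetherianRing_section (hW a)
    haveI := finite_sections M hM.2 (hW a)
    haveI hfin : Module.Finite Γ(X, W a) Γ(M.restrict (hW a).fromSpec, ⊤) :=
      Module.Finite.equiv (topEquiv M (hW a)).symm
    obtain ⟨P₁, hP₁⟩ := exists_finite_presentation (M.restrict (hW a).fromSpec)
    let P₂ := SheafOfModules.Presentation.ofIsIso.{u, u, u}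
      (((Scheme.Modules.restrictFunctorComp (hW a).isoSpec.hom (hW a).fromSpec).symm ≪≫
        Scheme.Modules.restrictFunctorCongr (hW a).isoSpec_hom_fromSpec).app M).hom
      (Scheme.Modules.presentationRestrict (hW a).isoSpec.hom P₁)
    exact ⟨presentationOver M (W a) P₂,
      ⟨⟨inferInstanceAs (Finite P₁.generators.I)⟩, ⟨inferInstanceAs (Finite P₁.relations.I)⟩⟩⟩
  choose P hP using this
  let q : SheafOfModules.QuasicoherentData.{u} (R := X.ringCatSheaf) M :=
    { I := X.affineOpens
      X := W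
      coversTop := by
        rw [Opens.coversTop_iff, IsOpenCover]
        refine eq_top_iff.mpr fun x _ => ?_
        obtain ⟨_, ⟨V, hV, rfl⟩, hx, -⟩ :=
          X.isBasis_affineOpens.exists_subset_of_mem_open (Set.mem_univ x) isOpen_univ
        exact Opens.mem_iSup.mpr ⟨⟨V, hV⟩, hx⟩
      presentation := P }
  constructor
  refine ⟨q, ?_⟩
  constructor
  exact fun a => hP a

end Groth.Agent.QCohLib
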