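import Groth.Agent.QCohLib.FiniteType
import Mathlib.RingTheory.LocalProperties.FinitePresentation

set_option autoImplicit false
set_option backward.isDefEq.respectTransparency false
set_option backward.defeqAttrib.useBackward true
set_option linter.style.haveILetI false

/-!
# Sections of finitely presented quasi-coherent modules on affine opens
-/

universe u

open CategoryTheory Limits Opposite TopologicalSpace AlgebraicGeometry
open Groth.Agent.CohBase

namespace Groth.Agent.QCohLib

variable {X : Scheme.{u}}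

theorem finitePresentation_of_presentation {R : CommRingCat.{u}} (N : (Spec R).Modules)
    [IsIso N.fromTildeΓ] (P : SheafOfModules.Presentation.{u, u, u} (R := (Spec R).ringCatSheaf) N)
    [P.IsFinite] : Module.FinitePresentation R Γ(N, ⊤) := by
  let P₀ := (modulesSpecToSheaf.obj N).presheaf.obj (op ⊤)
  let g := (tilde.functor R).preimage ((tildeFinsupp _).hom ≫ P.relations.π ≫ kernel.ι _ ≫
    (tildeFinsupp P.generators.I).inv)
  let iso : cokernel ((tilde.functor R).map g) ≅ cokernel (P.relations.π ≫ kernel.ι _) := by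
    refine cokernel.mapIso _ _ (tildeFinsupp _) (tildeFinsupp _) ?_
    simp only [g, (tilde.functor R).map_preimage]
    simp
  let e : (tilde.functor R).obj (cokernel g) ≅ tilde P₀ :=
    PreservesCokernel.iso (tilde.functor R) g ≪≫ iso ≪≫
      (colimit.isColimit _).coconePointUniqueUpToIso P.isColimit ≪≫
        (asIso N.fromTildeΓ).symm
  let e₀ : cokernel g ≅ P₀ := (tilde.functor R).preimageIso e
  haveI : Finite P.generators.I := SheafOfModules.GeneratingSections.IsFiniteType.finite
  haveI : Finite P.relations.I := SheafOfModules.GeneratingSections.IsFiniteType.finite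
  haveI : Module.FinitePresentation R
      ((P.generators.I →₀ R) ⧸ LinearMap.range g.hom) :=
    Module.finitePresentation_of_surjective _ (Submodule.mkQ_surjective _)
      (by rw [Submodule.ker_mkQ]; exact Module.Finite.iff_fg.mp inferInstance)
  exact Module.FinitePresentation.of_equiv
    ((ModuleCat.cokernelIsoRangeQuotient g).symm ≪≫ e₀).toLinearEquiv

theorem finitePresentation_of_presentation_over (M : X.Modules) [Coh.IsQCoh M] (U : X.Opens)
    (P : (SheafOfModules.over (R := X.ringCatSheaf) M U).Presentation) [P.IsFinite]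
    {V : X.Opens} (hV : IsAffineOpen V) (hVU : V ≤ U) :
    Module.FinitePresentation Γ(X, V) Γ(M, V) := by
  let v : Spec Γ(X, V) ⟶ (U : Scheme.{u}) := hV.isoSpec.inv ≫ X.homOfLE hVU
  haveI : PreservesColimitsOfSize.{u, u} (Scheme.Modules.restrictFunctor v) :=
    (Scheme.Modules.restrictAdjunction v).leftAdjoint_preservesColimits
  let F := (Scheme.Modules.overEquiv U).functor ⋙ Scheme.Modules.restrictFunctor v
  let iso : SheafOfModules.overFunctor X.ringCatSheaf U ⋙ F ≅
      Scheme.Modules.restrictFunctor hV.fromSpec :=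
    (Functor.associator _ _ _).symm ≪≫
      Functor.isoWhiskerRight (Scheme.Modules.overFunctorEquiv U) _ ≪≫
      (Scheme.Modules.restrictFunctorComp v U.ι).symm ≪≫
      Scheme.Modules.restrictFunctorCongr (g := hV.fromSpec)
        (show v ≫ U.ι = hV.fromSpec by simp [v, IsAffineOpen.isoSpec_inv_ι])
  let P₂ : SheafOfModules.Presentation.{u, u, u} (R := (Spec Γ(X, V)).ringCatSheaf)
      (M.restrict hV.fromSpec) :=
    SheafOfModules.Presentation.ofIsIso.{u, u, u} (iso.app M).hom
      (P.map F (Scheme.Modules.restrictUnitIso _).symm)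
  haveI : P₂.IsFinite := ⟨⟨inferInstanceAs (Finite P.generators.I)⟩,
    ⟨inferInstanceAs (Finite P.relations.I)⟩⟩
  haveI hiso : IsIso (M.restrict hV.fromSpec).fromTildeΓ :=
    (isIso_fromTildeΓ_iff_isLocalizing _).mpr (isLocalizing_restrict M hV)
  haveI := finitePresentation_of_presentation _ P₂
  exact Module.FinitePresentation.of_equiv (topEquiv M hV)

/-- The restriction to a basic open as a linear map. -/
theorem exists_isLocalizedModule_res (M : X.Modules) [Coh.IsQCoh M] {W : X.Opens}
    (hW : IsAffineOpen W) (a : Γ(X, W)) :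
    letI := Module.compHom Γ(M, X.basicOpen a)
      (X.presheaf.map (homOfLE (X.basicOpen_le a)).op).hom
    ∃ r : Γ(M, W) →ₗ[Γ(X, W)] Γ(M, X.basicOpen a),
      IsLocalizedModule (Submonoid.powers a) r := by
  letI := Module.compHom Γ(M, X.basicOpen a)
    (X.presheaf.map (homOfLE (X.basicOpen_le a)).op).hom
  let r : Γ(M, W) →ₗ[Γ(X, W)] Γ(M, X.basicOpen a) :=
    { toFun := M.presheaf.map (homOfLE (X.basicOpen_le a)).op
      map_add' := fun s t => map_add _ s t
      map_smul' := fun b s => M.val.map_smul (homOfLE (X.basicOpen_le a)).op b s }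
  have hl := locAt M hW
  refine ⟨r, IsLocalizedModule.Away.mk_of_addCommGroup ?_ ?_ ?_⟩
  · refine (Module.End.isUnit_iff _).mpr ?_
    have hu : IsUnit (X.presheaf.map (homOfLE (X.basicOpen_le a)).op a) :=
      X.toRingedSpace.isUnit_res_basicOpen a
    obtain ⟨u, hu⟩ := hu
    show Function.Bijective fun v : Γ(M, X.basicOpen a) =>
      X.presheaf.map (homOfLE (X.basicOpen_le a)).op a • v
    rw [← hu]
    exact MulAction.bijective u
  · intro t
    obtain ⟨n, s, hs⟩ := hl.extend a t
    exact ⟨n, s, hs.symm⟩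
  · intro s hs
    obtain ⟨n, hn⟩ := hl.kill a s hs
    exact ⟨n, (sc_le_rfl (a ^ n) s).symm.trans hn⟩

/-- A finitely presented quasi-coherent module has finitely presented sections on affine opens. -/
theorem finitePresentation_sections (M : X.Modules) [Coh.IsQCoh M]
    (hM : SheafOfModules.IsFinitePresentation (R := X.ringCatSheaf) M) {W : X.Opens}
    (hW : IsAffineOpen W) : Module.FinitePresentation Γ(X, W) Γ(M, W) := by
  classical
  obtain ⟨σ, hσ⟩ := hM.exists_quasicoherentData
  have hcov : ⨆ i, σ.X i = ⊤ := by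
    have h := σ.coversTop
    rw [Opens.coversTop_iff, IsOpenCover] at h
    exact h
  let s : Set Γ(X, W) := {a | ∃ i, X.basicOpen a ≤ σ.X i}
  have hs : Ideal.span s = ⊤ := by
    rw [← hW.self_le_iSup_basicOpen_iff]
    intro x hx
    obtain ⟨i, hi⟩ := Opens.mem_iSup.mp (hcov.ge (Set.mem_univ x) : x ∈ ⨆ i, σ.X i)
    obtain ⟨a, ha, hxa⟩ := hW.exists_basicOpen_le ⟨x, hi⟩ hx
    exact Opens.mem_iSup.mpr ⟨⟨a, i, ha⟩, hxa⟩
  letI : ∀ g : s, Module Γ(X, W) Γ(M, X.basicOpen g.1) := fun g =>
    Module.compHom Γ(M, X.basicOpen g.1) (X.presheaf.map (homOfLE (X.basicOpen_le g.1)).op).hom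
  letI : ∀ g : s, Algebra Γ(X, W) Γ(X, X.basicOpen g.1) := fun g =>
    (X.presheaf.map (homOfLE (X.basicOpen_le g.1)).op).hom.toAlgebra
  haveI : ∀ g : s, IsScalarTower Γ(X, W) Γ(X, X.basicOpen g.1) Γ(M, X.basicOpen g.1) :=
    fun g => .of_algebraMap_smul fun _ _ => rfl
  haveI : ∀ g : s, IsLocalization.Away g.1 Γ(X, X.basicOpen g.1) := fun g =>
    hW.isLocalization_basicOpen g.1
  choose r hr using fun g : s => exists_isLocalizedModule_res M hW g.1
  refine Module.FinitePresentation.of_localizationSpan' s hs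
    (Rₚ := fun g => Γ(X, X.basicOpen g.1)) r fun g => ?_
  obtain ⟨i, hi⟩ := g.2
  haveI := hσ.isFinite_presentation i
  exact finitePresentation_of_presentation_over M (σ.X i) (σ.presentation i) (hW.basicOpen _) hi

end Groth.Agent.QCohLib
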