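import Groth.Agent.QCohLib.Criterion

/-!
# Short exact sequences of modules and quasi-coherence
-/

universe u

open CategoryTheory Limits Opposite TopologicalSpace AlgebraicGeometry
open Groth.Agent.CohBase

namespace Groth.Agent.QCohLib

section Site

variable {C : Type*} [Category C] [Abelian C] {D : Type*} [Category D] [Abelian D]

/-- A functor whose composite with a reflector preserves cokernels preserves epimorphisms. -/
lemma epi_map_of_reflector {P : Type*} [Category P] [Abelian P] {L : P ⥤ C} {G : C ⥤ P}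
    (adj : L ⊣ G) [IsIso adj.counit] (T : C ⥤ D) [L.PreservesZeroMorphisms]
    [(L ⋙ T).PreservesZeroMorphisms] [T.PreservesZeroMorphisms]
    [∀ {A B : P} (f : A ⟶ B), PreservesColimit (parallelPair f 0) (L ⋙ T)]
    {M N : C} (g : M ⟶ N) [Epi g] : Epi (T.map g) := by
  have hLg : Epi (L.map (G.map g)) := by
    have h : L.map (G.map g) ≫ adj.counit.app N = adj.counit.app M ≫ g := adj.counit.naturality g
    haveI : Epi (L.map (G.map g) ≫ adj.counit.app N) := by rw [h]; infer_instance
    have : L.map (G.map g) = (L.map (G.map g) ≫ adj.counit.app N) ≫ inv (adj.counit.app N) := by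
      rw [Category.assoc, IsIso.hom_inv_id, Category.comp_id]
    rw [this]; infer_instance
  let c := cokernel.π (G.map g)
  have hc : L.map c = 0 := by
    rw [← cancel_epi (L.map (G.map g)), ← L.map_comp, cokernel.condition, L.map_zero, comp_zero]
  haveI : Epi ((L ⋙ T).map (G.map g)) := by
    refine Preadditive.epi_of_cancel_zero _ fun {Z} h hh => ?_
    have hl := CokernelCofork.mapIsColimit _ (cokernelIsCokernel (G.map g)) (L ⋙ T)
    obtain ⟨l, hl'⟩ := CokernelCofork.IsColimit.desc' hl h hh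
    rw [← hl']
    change (L ⋙ T).map c ≫ l = 0
    rw [Functor.comp_map, hc, T.map_zero, zero_comp]
  have e : T.map g = inv (T.map (adj.counit.app M)) ≫ (L ⋙ T).map (G.map g) ≫
      T.map (adj.counit.app N) := by
    rw [IsIso.eq_inv_comp, Functor.comp_map, ← T.map_comp, ← T.map_comp]
    exact congrArg T.map (adj.counit.naturality g).symm
  rw [e]
  infer_instance

end Site

variable {X : Scheme.{u}}

instance : (SheafOfModules.toSheaf.{u} X.ringCatSheaf).PreservesEpimorphisms := ⟨fun {M N} g _ => by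
  let α : X.ringCatSheaf.obj ⟶ X.ringCatSheaf.obj := 𝟙 _
  haveI : PreservesFiniteColimits
      (PresheafOfModules.sheafification.{u} (R := X.ringCatSheaf) α ⋙
        SheafOfModules.toSheaf.{u} X.ringCatSheaf) :=
    haveI : PreservesFiniteColimits
        (presheafToSheaf (Opens.grothendieckTopology X) AddCommGrpCat.{u}) := inferInstance
    preservesFiniteColimits_of_natIso
      (PresheafOfModules.sheafificationCompToSheaf.{u} (R := X.ringCatSheaf) α).symm
  exact epi_map_of_reflector (PresheafOfModules.sheafificationAdjunction.{u} (R := X.ringCatSheaf) α)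
    (SheafOfModules.toSheaf.{u} X.ringCatSheaf) g⟩

/-- The underlying abelian sheaf, on the category of modules of a scheme. -/
noncomputable abbrev toAbF (X : Scheme.{u}) : X.Modules ⥤ AbSh X :=
  SheafOfModules.toSheaf.{u} X.ringCatSheaf

instance : (toAbF X).Additive := inferInstanceAs (SheafOfModules.toSheaf.{u} X.ringCatSheaf).Additive

instance : (toAbF X).PreservesEpimorphisms :=
  inferInstanceAs (SheafOfModules.toSheaf.{u} X.ringCatSheaf).PreservesEpimorphisms

noncomputable instance : PreservesFiniteLimits (toAbF X) :=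
  inferInstanceAs (PreservesFiniteLimits (SheafOfModules.toSheaf.{u} X.ringCatSheaf))

/-- The underlying sequence of abelian sheaves. -/
lemma toAb_shortExact {S : ShortComplex X.Modules} (hS : S.ShortExact) :
    (S.map (toAbF X)).ShortExact := by
  haveI := hS.mono_f
  haveI := hS.epi_g
  haveI : Mono ((S.map (toAbF X)).f) := (toAbF X).map_mono S.f
  haveI : Epi ((S.map (toAbF X)).g) := (toAbF X).map_epi S.g
  refine ShortComplex.ShortExact.mk' ?_ inferInstance inferInstance
  exact ShortComplex.exact_of_f_is_kernel _ (KernelFork.mapIsLimit _ hS.fIsKernel (toAbF X))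

/-- Kernels are computed on sections. -/
lemma kernel_app_exact {M N : X.Modules} (φ : M ⟶ N) (V : X.Opens) (s : Γ(M, V))
    (hs : φ.app V s = 0) : ∃ t, (kernel.ι φ).app V t = s := by
  have h0 : (secEquiv V ((toAbF X).obj M)).symm s ≫ (toAbF X).map φ = 0 := by
    rw [secEquiv_symm_comp]
    exact (congrArg (secEquiv V ((toAbF X).obj N)).symm hs).trans (map_zero _)
  obtain ⟨t, ht⟩ := KernelFork.IsLimit.lift'
    (KernelFork.mapIsLimit _ (kernelIsKernel φ) (toAbF X)) _ h0
  refine ⟨secEquiv V _ t, ?_⟩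
  have h1 := secEquiv_comp V t ((toAbF X).map (kernel.ι φ))
  refine h1.symm.trans ?_
  exact (congrArg (secEquiv V ((toAbF X).obj M)) ht).trans (AddEquiv.apply_symm_apply _ _)

lemma app_sc {M N : X.Modules} (φ : M ⟶ N) {W V : X.Opens} (a : Γ(X, W)) (h : V ≤ W)
    (s : Γ(M, V)) : φ.app V (sc a h s) = sc a h (φ.app V s) :=
  Scheme.Modules.Hom.app_smul φ _ _

lemma app_res {M N : X.Modules} (φ : M ⟶ N) {W V : X.Opens} (h : V ≤ W) (s : Γ(M, W)) :
    φ.app V (M.presheaf.map (homOfLE h).op s) = N.presheaf.map (homOfLE h).op (φ.app W s) :=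
  congr($(φ.mapPresheaf.naturality (homOfLE h).op) s)

variable {S : ShortComplex X.Modules}

lemma app_injective (hS : S.ShortExact) (V : X.Opens) : Function.Injective (S.f.app V) := by
  haveI := (toAb_shortExact hS).mono_f
  exact sections_injective (S.map (toAbF X)).f V

lemma app_exact (hS : S.ShortExact) (V : X.Opens) (s : Γ(S.X₂, V)) (h : S.g.app V s = 0) :
    ∃ t, S.f.app V t = s :=
  sections_exact (toAb_shortExact hS) V s h

lemma app_g_f (V : X.Opens) (s : Γ(S.X₁, V)) : S.g.app V (S.f.app V s) = 0 :=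
  congr($(S.zero).app V s)

lemma app_surjective (hS : S.ShortExact) (h1 : Coh.IsQCoh S.X₁) {V : X.Opens} (hV : IsAffineOpen V) :
    Function.Surjective (S.g.app V) := by
  haveI : Subsingleton (HU V (S.map (toAbF X)).X₁ 1) :=
    affine_vanishing S.X₁ hV 0
  exact sections_surjective (toAb_shortExact hS) V

/-- Extensions. -/
theorem isQCoh_X₂ (hS : S.ShortExact) (h1 : Coh.IsQCoh S.X₁) (h3 : Coh.IsQCoh S.X₃) :
    Coh.IsQCoh S.X₂ := by
  rw [isQCoh_iff]
  intro W hW
  have l1 := locAt S.X₁ hW
  have l3 := locAt S.X₃ hW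
  constructor
  · intro f t
    obtain ⟨n, q, hq⟩ := l3.extend f (S.g.app _ t)
    obtain ⟨p, rfl⟩ := app_surjective hS h1 hW q
    obtain ⟨r, hr⟩ := app_exact hS _ (sc (f ^ n) (X.basicOpen_le f) t -
      S.X₂.presheaf.map (homOfLE (X.basicOpen_le f)).op p) (by
        rw [map_sub, app_sc, app_res, hq, sub_self])
    obtain ⟨m, r', hr'⟩ := l1.extend f r
    refine ⟨m + n, sc (f ^ m) le_rfl p + S.f.app W r', ?_⟩
    rw [map_add, map_sc, ← app_res, hr', app_sc, hr, map_sub, pow_add, sc_mul]
    abel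
  · intro f s hs
    obtain ⟨n, hn⟩ := l3.kill f (S.g.app W s) (by rw [← app_res, hs, map_zero])
    obtain ⟨r, hr⟩ := app_exact hS W (sc (f ^ n) le_rfl s) (by rw [app_sc, hn])
    obtain ⟨m, hm⟩ := l1.kill f r (app_injective hS _ (by
      rw [app_res, hr, map_sc, hs, map_zero, map_zero]))
    refine ⟨m + n, ?_⟩
    rw [pow_add, sc_mul, ← hr, ← app_sc, hm, map_zero]

/-- Quotients. -/
theorem isQCoh_X₃ (hS : S.ShortExact) (h1 : Coh.IsQCoh S.X₁) (h2 : Coh.IsQCoh S.X₂) :
    Coh.IsQCoh S.X₃ := by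
  rw [isQCoh_iff]
  intro W hW
  have l1 := locAt S.X₁ hW
  have l2 := locAt S.X₂ hW
  constructor
  · intro f t
    obtain ⟨p, rfl⟩ := app_surjective hS h1 (hW.basicOpen f) t
    obtain ⟨n, p', hp'⟩ := l2.extend f p
    exact ⟨n, S.g.app W p', by rw [← app_res, hp', app_sc]⟩
  · intro f s hs
    obtain ⟨p, rfl⟩ := app_surjective hS h1 hW s
    obtain ⟨r, hr⟩ := app_exact hS _ (S.X₂.presheaf.map (homOfLE (X.basicOpen_le f)).op p)
      (by rw [app_res, hs])
    obtain ⟨n, r', hr'⟩ := l1.extend f r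
    obtain ⟨m, hm⟩ := l2.kill f (sc (f ^ n) le_rfl p - S.f.app W r') (by
      rw [map_sub, map_sc, ← app_res, hr', app_sc, hr, sub_self])
    refine ⟨m + n, ?_⟩
    rw [map_sub, sub_eq_zero] at hm
    rw [pow_add, sc_mul, ← app_sc, ← app_sc, hm, app_sc, app_g_f, map_zero]

/-- Kernels. -/
theorem isQCoh_X₁ (hS : S.ShortExact) (h2 : Coh.IsQCoh S.X₂) (h3 : Coh.IsQCoh S.X₃) :
    Coh.IsQCoh S.X₁ := by
  rw [isQCoh_iff]
  intro W hW
  have l2 := locAt S.X₂ hW
  have l3 := locAt S.X₃ hW
  constructor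
  · intro f t
    obtain ⟨n, p, hp⟩ := l2.extend f (S.f.app _ t)
    obtain ⟨m, hm⟩ := l3.kill f (S.g.app W p) (by rw [← app_res, hp, app_sc, app_g_f, map_zero])
    obtain ⟨r, hr⟩ := app_exact hS W (sc (f ^ m) le_rfl p) (by rw [app_sc, hm])
    refine ⟨m + n, r, app_injective hS _ ?_⟩
    rw [app_res, hr, map_sc, hp, app_sc, pow_add, sc_mul]
  · intro f s hs
    obtain ⟨n, hn⟩ := l2.kill f (S.f.app W s) (by rw [← app_res, hs, map_zero])
    exact ⟨n, app_injective hS _ (by rw [app_sc, hn, map_zero])⟩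

/-- Images and kernels and cokernels of maps. -/
theorem isQCoh_image {M N : X.Modules} (φ : M ⟶ N) (hM : Coh.IsQCoh M) (hN : Coh.IsQCoh N) :
    Coh.IsQCoh (kernel φ) ∧ Coh.IsQCoh (cokernel φ) := by
  have hk : Coh.IsQCoh (kernel φ) := by
    rw [isQCoh_iff]
    intro W hW
    have lM := locAt M hW
    have lN := locAt N hW
    let S₁ : ShortComplex X.Modules :=
      ShortComplex.mk (kernel.ι φ) (cokernel.π (kernel.ι φ)) (cokernel.condition _)
    have hS₁ : S₁.ShortExact := ShortComplex.ShortExact.mk'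
      (ShortComplex.exact_of_g_is_cokernel _ (cokernelIsCokernel _)) inferInstance inferInstance
    have hzero : ∀ (V : X.Opens) (s : Γ(M, V)), φ.app V s = 0 → ∃ t, (kernel.ι φ).app V t = s :=
      kernel_app_exact φ
    constructor
    · intro f t
      obtain ⟨n, p, hp⟩ := lM.extend f ((kernel.ι φ).app _ t)
      obtain ⟨m, hm⟩ := lN.kill f (φ.app W p) (by
        rw [← app_res, hp, app_sc, show φ.app _ ((kernel.ι φ).app _ t) = 0 from
          congr($(kernel.condition φ).app _ t), map_zero])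
      obtain ⟨r, hr⟩ := hzero W (sc (f ^ m) le_rfl p) (by rw [app_sc, hm])
      refine ⟨m + n, r, app_injective hS₁ _ ?_⟩
      change (kernel.ι φ).app _ _ = (kernel.ι φ).app _ _
      rw [app_res, hr, map_sc, hp, app_sc, pow_add, sc_mul]
    · intro f s hs
      obtain ⟨n, hn⟩ := lM.kill f ((kernel.ι φ).app W s) (by rw [← app_res, hs, map_zero])
      exact ⟨n, app_injective hS₁ _ (show (kernel.ι φ).app _ _ = (kernel.ι φ).app _ _ by
        rw [app_sc, hn, map_zero])⟩
  refine ⟨hk, ?_⟩
  have h1 : Coh.IsQCoh (Abelian.coimage φ) := by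
    refine isQCoh_X₃ (S := ShortComplex.mk (kernel.ι φ) (cokernel.π (kernel.ι φ))
      (cokernel.condition _)) (ShortComplex.ShortExact.mk'
        (ShortComplex.exact_of_g_is_cokernel _ (cokernelIsCokernel _)) inferInstance inferInstance)
      hk hM
  let S₂ : ShortComplex X.Modules :=
    ShortComplex.mk (Abelian.image.ι φ) (cokernel.π φ) (kernel.condition _)
  have hS₂ : S₂.ShortExact := ShortComplex.ShortExact.mk'
    (ShortComplex.exact_of_f_is_kernel _ (kernelIsKernel _)) inferInstance inferInstance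
  refine isQCoh_X₃ hS₂ ?_ hN
  exact (SheafOfModules.isQuasicoherent X.ringCatSheaf).prop_of_iso
    (Abelian.coimageIsoImage φ) h1

end Groth.Agent.QCohLib
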