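import Groth.Agent.QCohLib.FiniteType

/-!
# Coherent modules on locally Noetherian schemes
-/

universe u

open CategoryTheory Limits Opposite TopologicalSpace AlgebraicGeometry
open Groth.Agent.CohBase

namespace Groth.Agent.QCohLib

variable {X : Scheme.{u}}

/-- A map of modules on sections over an open, as a linear map. -/
noncomputable def appLinear {M N : X.Modules} (φ : M ⟶ N) (V : X.Opens) :
    Γ(M, V) →ₗ[Γ(X, V)] Γ(N, V) where
  toFun := φ.app V
  map_add' := map_add _
  map_smul' r x := Scheme.Modules.Hom.app_smul φ r x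

lemma iSup_affineOpens_eq_top (X : Scheme.{u}) : ⨆ W : X.affineOpens, W.1 = ⊤ := by
  refine eq_top_iff.mpr fun x _ => ?_
  obtain ⟨_, ⟨V, hV, rfl⟩, hx, -⟩ :=
    X.isBasis_affineOpens.exists_subset_of_mem_open (Set.mem_univ x) isOpen_univ
  exact Opens.mem_iSup.mpr ⟨⟨V, hV⟩, hx⟩

/-- Coherence from quasi-coherence and finite sections on affine opens. -/
theorem isCoh_of_finite (M : X.Modules) [hM : Coh.IsQCoh M]
    (h : ∀ W : X.Opens, IsAffineOpen W → Module.Finite Γ(X, W) Γ(M, W)) : Coh.IsCoh M :=
  ⟨hM, isFiniteType_of_finite M (fun W : X.affineOpens => W.1) (fun W => W.2)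
    (iSup_affineOpens_eq_top X) fun W => h _ W.2⟩

theorem finite_sections_of_isCoh {M : X.Modules} (hM : Coh.IsCoh M) {W : X.Opens}
    (hW : IsAffineOpen W) : Module.Finite Γ(X, W) Γ(M, W) :=
  haveI := hM.1
  finite_sections M hM.2 hW

/-- Quasi-coherent submodules of coherent modules are coherent. -/
theorem isCoh_of_mono [IsLocallyNoetherian X] {M N : X.Modules} (i : N ⟶ M) [Mono i]
    (hM : Coh.IsCoh M) (hN : Coh.IsQCoh N) : Coh.IsCoh N := by
  refine isCoh_of_finite N fun W hW => ?_
  haveI := isNoetherianRing_section hW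
  haveI := finite_sections_of_isCoh hM hW
  haveI := (toAbF X).map_mono i
  exact Module.Finite.of_injective (appLinear i W) (sections_injective ((toAbF X).map i) W)

/-- The kernel and cokernel of a map of coherent modules are coherent. -/
theorem isCoh_kernel_cokernel [IsLocallyNoetherian X] {M N : X.Modules} (φ : M ⟶ N)
    (hM : Coh.IsCoh M) (hN : Coh.IsCoh N) : Coh.IsCoh (kernel φ) ∧ Coh.IsCoh (cokernel φ) := by
  obtain ⟨hk, hc⟩ := isQCoh_image φ hM.1 hN.1
  refine ⟨isCoh_of_mono (kernel.ι φ) hM hk, ?_⟩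
  haveI := hc
  refine isCoh_of_finite (cokernel φ) fun W hW => ?_
  haveI := finite_sections_of_isCoh hN hW
  let S₁ : ShortComplex X.Modules :=
    ShortComplex.mk (kernel.ι (cokernel.π φ)) (cokernel.π φ) (kernel.condition _)
  have hS₁ : S₁.ShortExact := ShortComplex.ShortExact.mk'
    (ShortComplex.exact_of_f_is_kernel _ (kernelIsKernel _)) inferInstance inferInstance
  exact Module.Finite.of_surjective (appLinear (cokernel.π φ) W)
    (app_surjective hS₁ (isQCoh_image (cokernel.π φ) hN.1 hc).1 hW)

/-- Extensions of coherent modules are coherent. -/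
theorem isCoh_X₂ {S : ShortComplex X.Modules} (hS : S.ShortExact) (h1 : Coh.IsCoh S.X₁)
    (h3 : Coh.IsCoh S.X₃) : Coh.IsCoh S.X₂ := by
  haveI := isQCoh_X₂ hS h1.1 h3.1
  refine isCoh_of_finite S.X₂ fun W hW => ?_
  haveI := finite_sections_of_isCoh h1 hW
  haveI := finite_sections_of_isCoh h3 hW
  have he : Function.Exact (appLinear S.f W) (appLinear S.g W) := fun s =>
    ⟨fun h => app_exact hS W s h, by rintro ⟨t, rfl⟩; exact app_g_f W t⟩
  exact Module.Finite.of_exact he (app_surjective hS h1.1 hW)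

/-- Coherent is finitely presented on locally Noetherian schemes. -/
theorem isCoh_iff_isFP [IsLocallyNoetherian X] (M : X.Modules) :
    Coh.IsCoh M ↔ SheafOfModules.IsFinitePresentation (R := X.ringCatSheaf) M :=
  ⟨isFP_of_isCoh M, fun h => ⟨inferInstance, inferInstance⟩⟩

end Groth.Agent.QCohLib
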