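import Groth.Agent.QCohLib.Criterion
import Mathlib.AlgebraicGeometry.Morphisms.QuasiSeparated

/-!
# Sections over compact quasi-separated opens; direct images of quasi-coherent modules
-/

set_option autoImplicit false

universe u

open CategoryTheory Limits Opposite TopologicalSpace AlgebraicGeometry
open Groth.Agent.CohBase

namespace Groth.Agent.QCohLib

variable {X : Scheme.{u}} (M : X.Modules)

lemma eq_of_cover {ι : Type u} {W : ι → X.Opens} {V : X.Opens} (hle : ∀ i, W i ≤ V) (hcov : V ≤ iSup W)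
    (s t : Γ(M, V)) (h : ∀ i, M.presheaf.map (homOfLE (hle i)).op s = M.presheaf.map (homOfLE (hle i)).op t) :
    s = t :=
  TopCat.Sheaf.eq_of_locally_eq' ⟨M.presheaf, M.isSheaf⟩ W V (fun i => homOfLE (hle i)) hcov s t h

/-- A finite affine cover of a compact open. -/
lemma exists_finite_affine_cover {V : X.Opens} (hV : IsCompact (V : Set X)) :
    ∃ (ι : Type u) (_ : Fintype ι) (W : ι → X.Opens), (∀ i, IsAffineOpen (W i)) ∧ (∀ i, W i ≤ V) ∧ V ≤ iSup W := by
  obtain ⟨s, hs, he⟩ := isCompact_and_isOpen_iff_finite_and_eq_biUnion_affineOpens.mp ⟨hV, V.2⟩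
  haveI := hs.fintype
  refine ⟨s, inferInstance, fun i => i.1.1, fun i => i.1.2, fun i x hx => ?_, fun x hx => ?_⟩
  · exact he.ge (Set.mem_biUnion i.2 hx)
  · obtain ⟨i, hi, hxi⟩ := Set.mem_iUnion₂.mp (he.le hx)
    exact Opens.mem_iSup.mpr ⟨⟨i, hi⟩, hxi⟩

variable [Coh.IsQCoh M]

/-- A section on a compact open dying on `D(a)` is killed by a power of `a`. -/
theorem exists_pow_zero_of_isCompact {V : X.Opens} (hV : IsCompact (V : Set X)) (a : Γ(X, V)) (s : Γ(M, V))
    (hs : M.presheaf.map (homOfLE (X.basicOpen_le a)).op s = 0) : ∃ n : ℕ, sc (a ^ n) le_rfl s = 0 := by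
  obtain ⟨ι, _, W, hW, hle, hcov⟩ := exists_finite_affine_cover hV
  have key : ∀ i, ∃ n : ℕ, sc (a ^ n) (hle i) (M.presheaf.map (homOfLE (hle i)).op s) = 0 := fun i => by
    let b : Γ(X, W i) := X.presheaf.map (homOfLE (hle i)).op a
    have hb : X.basicOpen b ≤ X.basicOpen a := (X.basicOpen_res a _).le.trans inf_le_right
    obtain ⟨n, hn⟩ := exists_pow_zero M (hW i) b rfl (M.presheaf.map (homOfLE (hle i)).op s) (by
      rw [restr_trans, ← restr_trans M (X.basicOpen_le a) hb, hs, map_zero])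
    refine ⟨n, Eq.trans ?_ hn⟩
    rw [sc_apply, sc_apply, show b ^ n = X.presheaf.map (homOfLE (hle i)).op (a ^ n) from (map_pow _ a n).symm,
      ← CategoryTheory.ConcreteCategory.comp_apply, ← Functor.map_comp]
    rfl
  choose n hn using key
  refine ⟨Finset.univ.sup n, eq_of_cover M hle hcov _ 0 fun i => ?_⟩
  rw [map_zero, map_sc]
  obtain ⟨k, hk⟩ := Nat.exists_eq_add_of_le (Finset.le_sup (f := n) (Finset.mem_univ i))
  rw [hk, pow_add, mul_comm, sc_mul, hn, map_zero]

/-- A section on `D(a)` extends after multiplication by a power of `a`. -/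
theorem exists_pow_extend_of_isQuasiSeparated {V : X.Opens} (hV : IsCompact (V : Set X))
    (hV' : IsQuasiSeparated (V : Set X)) (a : Γ(X, V)) (t : Γ(M, X.basicOpen a)) :
    ∃ (n : ℕ) (s : Γ(M, V)), M.presheaf.map (homOfLE (X.basicOpen_le a)).op s = sc (a ^ n) (X.basicOpen_le a) t := by
  obtain ⟨ι, _, W, hW, hle, hcov⟩ := exists_finite_affine_cover hV
  have key : ∀ i, ∃ (n : ℕ) (s : Γ(M, W i)),
      M.presheaf.map (homOfLE (inf_le_left : W i ⊓ X.basicOpen a ≤ W i)).op s =
        sc (a ^ n) (inf_le_right.trans (X.basicOpen_le a))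
          (M.presheaf.map (homOfLE (inf_le_right : W i ⊓ X.basicOpen a ≤ _)).op t) := fun i => by
    let b : Γ(X, W i) := X.presheaf.map (homOfLE (hle i)).op a
    have hbe : W i ⊓ X.basicOpen a = X.basicOpen b := (X.basicOpen_res a _).symm
    obtain ⟨n, s, hs⟩ := exists_pow_extend M (hW i) b hbe
      (M.presheaf.map (homOfLE (inf_le_right : W i ⊓ X.basicOpen a ≤ _)).op t)
    refine ⟨n, s, hs.trans ?_⟩
    rw [sc_apply, sc_apply, show b ^ n = X.presheaf.map (homOfLE (hle i)).op (a ^ n) from (map_pow _ a n).symm,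
      ← CategoryTheory.ConcreteCategory.comp_apply, ← Functor.map_comp]
    rfl
  choose n s hs using key
  let N := Finset.univ.sup n
  let s' : ∀ i, Γ(M, W i) := fun i => sc (a ^ (N - n i)) (hle i) (s i)
  have hs' : ∀ (i : ι) (O : X.Opens) (hO : O ≤ W i) (hO' : O ≤ X.basicOpen a),
      M.presheaf.map (homOfLE hO).op (s' i) =
        sc (a ^ N) (hO'.trans (X.basicOpen_le a)) (M.presheaf.map (homOfLE hO').op t) := fun i O hO hO' => by
    rw [map_sc, ← restr_trans M (inf_le_left : W i ⊓ X.basicOpen a ≤ W i) (le_inf hO hO'), hs, map_sc, restr_trans,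
      ← sc_mul, ← pow_add, Nat.sub_add_cancel (Finset.le_sup (f := n) (Finset.mem_univ i))]
  have key2 : ∀ i j, ∃ k : ℕ, sc (a ^ k) (inf_le_left.trans (hle i))
      (M.presheaf.map (homOfLE (inf_le_left : W i ⊓ W j ≤ W i)).op (s' i) -
        M.presheaf.map (homOfLE (inf_le_right : W i ⊓ W j ≤ W j)).op (s' j)) = 0 := fun i j => by
    have hc : IsCompact ((W i ⊓ W j : X.Opens) : Set X) :=
      hV' (W i) (W j) (hle i) (W i).2 (hW i).isCompact (hle j) (W j).2 (hW j).isCompact
    let c : Γ(X, W i ⊓ W j) := X.presheaf.map (homOfLE (inf_le_left.trans (hle i))).op a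
    have hcb : X.basicOpen c ≤ X.basicOpen a := (X.basicOpen_res a _).le.trans inf_le_right
    obtain ⟨k, hk⟩ := exists_pow_zero_of_isCompact M hc c
      (M.presheaf.map (homOfLE (inf_le_left : W i ⊓ W j ≤ W i)).op (s' i) -
        M.presheaf.map (homOfLE (inf_le_right : W i ⊓ W j ≤ W j)).op (s' j)) (by
        rw [map_sub, restr_trans, restr_trans, hs' i _ _ hcb, hs' j _ _ hcb, sub_self])
    refine ⟨k, Eq.trans ?_ hk⟩
    rw [sc_apply, sc_apply, show c ^ k = X.presheaf.map (homOfLE (inf_le_left.trans (hle i))).op (a ^ k) from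
      (map_pow _ a k).symm, ← CategoryTheory.ConcreteCategory.comp_apply, ← Functor.map_comp]
    rfl
  choose k hk using key2
  let K := Finset.univ.sup fun p : ι × ι => k p.1 p.2
  obtain ⟨y, hy, -⟩ := TopCat.Sheaf.existsUnique_gluing' ⟨M.presheaf, M.isSheaf⟩ W V (fun i => homOfLE (hle i)) hcov
    (fun i => sc (a ^ K) (hle i) (s' i)) (fun i j => by
      change M.presheaf.map (homOfLE (inf_le_left : W i ⊓ W j ≤ W i)).op _ =
        M.presheaf.map (homOfLE (inf_le_right : W i ⊓ W j ≤ W j)).op _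
      beta_reduce
      rw [map_sc (a ^ K), map_sc (a ^ K), ← sub_eq_zero, ← map_sub]
      obtain ⟨l, hl⟩ := Nat.exists_eq_add_of_le
        (Finset.le_sup (f := fun p : ι × ι => k p.1 p.2) (Finset.mem_univ (i, j)))
      change sc (a ^ K) _ _ = 0
      rw [show K = k i j + l from hl, pow_add, mul_comm, sc_mul, hk, map_zero])
  refine ⟨K + N, y, eq_of_cover M (W := fun i => W i ⊓ X.basicOpen a) (fun i => inf_le_right) (fun x hx => ?_) _ _
    fun i => ?_⟩
  · obtain ⟨i, hi⟩ := Opens.mem_iSup.mp (hcov (X.basicOpen_le a hx))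
    exact Opens.mem_iSup.mpr ⟨i, hi, hx⟩
  · rw [restr_trans, ← restr_trans M (hle i) (inf_le_left : W i ⊓ X.basicOpen a ≤ W i), map_sc]
    erw [hy i]
    rw [map_sc, hs' i _ _ inf_le_right, ← sc_mul, ← pow_add]

/-- Direct images of quasi-coherent modules. -/
theorem isQCoh_pushforward {S : Scheme.{u}} (f : X ⟶ S) [QuasiCompact f] [QuasiSeparated f] :
    Coh.IsQCoh ((Scheme.Modules.pushforward f).obj M) := by
  refine (isQCoh_iff _).mpr fun W hW => ?_
  have hc : IsCompact ((f ⁻¹ᵁ W : X.Opens) : Set X) := f.isCompact_preimage hW.isCompact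
  have hq : IsQuasiSeparated ((f ⁻¹ᵁ W : X.Opens) : Set X) := f.isQuasiSeparated_preimage hW.isQuasiSeparated
  refine ⟨fun a t => ?_, fun a s hs => ?_⟩
  · have he : f ⁻¹ᵁ S.basicOpen a = X.basicOpen (f.app W a) := Scheme.preimage_basicOpen f a
    let t' : Γ(M, f ⁻¹ᵁ S.basicOpen a) := t
    obtain ⟨n, y, hy⟩ := exists_pow_extend_of_isQuasiSeparated M hc hq (f.app W a)
      (M.presheaf.map (homOfLE he.ge).op t')
    refine ⟨n, y, ?_⟩
    have h' := congrArg (M.presheaf.map (homOfLE he.le).op) hy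
    rw [restr_trans, map_sc, restr_trans, restr_self] at h'
    refine h'.trans ?_
    change sc (f.app W a ^ n) _ t' = f.app _ (S.presheaf.map (homOfLE (S.basicOpen_le a)).op (a ^ n)) • t'
    rw [← CategoryTheory.ConcreteCategory.comp_apply, f.naturality, CategoryTheory.ConcreteCategory.comp_apply, map_pow]
    rfl
  · have he : f ⁻¹ᵁ S.basicOpen a = X.basicOpen (f.app W a) := Scheme.preimage_basicOpen f a
    let s' : Γ(M, f ⁻¹ᵁ W) := s
    have hs' : M.presheaf.map (homOfLE (f.preimage_mono (S.basicOpen_le a))).op s' = 0 := hs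
    obtain ⟨n, hn⟩ := exists_pow_zero_of_isCompact M hc (f.app W a) s' (by
      rw [← restr_trans M (f.preimage_mono (S.basicOpen_le a)) he.ge, hs', map_zero])
    refine ⟨n, Eq.trans ?_ hn⟩
    change f.app _ (S.presheaf.map (homOfLE (le_refl W)).op (a ^ n)) • s' = sc (f.app W a ^ n) _ s'
    rw [← CategoryTheory.ConcreteCategory.comp_apply, f.naturality, CategoryTheory.ConcreteCategory.comp_apply, map_pow]
    rfl

end Groth.Agent.QCohLib
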