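import Groth.Agent.CohBase.Affine
import Mathlib.Algebra.Category.ModuleCat.Presheaf.Sheafification
import Mathlib.Algebra.Category.ModuleCat.Presheaf.Colimits

/-!
# A criterion for quasi-coherence

A module is quasi-coherent iff on the members of an affine cover its sections localize at basic opens.
Kernels, quotients and extensions of quasi-coherent modules are quasi-coherent.
-/

universe u

open CategoryTheory Limits Opposite TopologicalSpace AlgebraicGeometry
open Groth.Agent.CohBase

namespace Groth.Agent.QCohLib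

variable {X : Scheme.{u}}

/-- Sections over `W` localize at the basic opens of `W`. -/
structure LocAt (M : X.Modules) (W : X.Opens) : Prop where
  extend : ∀ (f : Γ(X, W)) (t : Γ(M, X.basicOpen f)), ∃ (n : ℕ) (s : Γ(M, W)),
    M.presheaf.map (homOfLE (X.basicOpen_le f)).op s = sc (f ^ n) (X.basicOpen_le f) t
  kill : ∀ (f : Γ(X, W)) (s : Γ(M, W)),
    M.presheaf.map (homOfLE (X.basicOpen_le f)).op s = 0 → ∃ n : ℕ, sc (f ^ n) le_rfl s = 0

lemma locAt (M : X.Modules) [Coh.IsQCoh M] {W : X.Opens} (hW : IsAffineOpen W) : LocAt M W where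
  extend f t := exists_pow_extend M hW f rfl t
  kill f s hs := exists_pow_zero M hW f rfl s hs

lemma isLocalizing_of_locAt (M : X.Modules) {W : X.Opens} (hW : IsAffineOpen W) (h : LocAt M W) :
    IsLocalizing (modulesSpecToSheaf.obj (M.restrict hW.fromSpec)) := by
  intro f
  have hb : hW.fromSpec ''ᵁ PrimeSpectrum.basicOpen f = X.basicOpen f := hW.fromSpec_image_basicOpen f
  have htop : hW.fromSpec ''ᵁ (⊤ : (Spec Γ(X, W)).Opens) = W := by
    rw [Scheme.Hom.image_top_eq_opensRange, hW.opensRange_fromSpec]
  have hle : hW.fromSpec ''ᵁ PrimeSpectrum.basicOpen f ≤ W := hb.le.trans (X.basicOpen_le f)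
  refine IsLocalizedModule.Away.mk_of_addCommGroup ?_ ?_ ?_
  · exact Scheme.Modules.isUnit_algebraMap_end_of_le_basicOpen f le_rfl
  · intro x
    obtain ⟨n, s, hs⟩ := h.extend f (M.presheaf.map (homOfLE hb.ge).op
      ((M.restrictAppIso hW.fromSpec _).hom x))
    refine ⟨n, (M.restrictAppIso hW.fromSpec ⊤).inv (M.presheaf.map (homOfLE htop.le).op s), ?_⟩
    refine (M.restrictAppIso hW.fromSpec _).addCommGroupIsoToAddEquiv.injective ?_
    refine (restrict_smul hW M _ hle (f ^ n) x).trans ?_
    refine Eq.trans ?_ (restrict_res hW M _ _).symm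
    rw [Iso.inv_hom_id_apply, restr_trans]
    have h' := congrArg (M.presheaf.map (homOfLE hb.le).op) hs
    rw [restr_trans, map_sc, restr_trans, restr_self] at h'
    exact h'.symm
  · intro x hx
    have hx' := congrArg (M.restrictAppIso hW.fromSpec (PrimeSpectrum.basicOpen f)).hom hx
    replace hx' : M.presheaf.map (homOfLE (hW.fromSpec.image_mono le_top)).op
        ((M.restrictAppIso hW.fromSpec ⊤).hom x) = (0 : Γ(M, hW.fromSpec ''ᵁ PrimeSpectrum.basicOpen f)) :=
      (restrict_res hW M _ x).symm.trans (hx'.trans (map_zero _))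
    obtain ⟨n, hn⟩ := h.kill f
      (M.presheaf.map (homOfLE htop.ge).op ((M.restrictAppIso hW.fromSpec ⊤).hom x)) (by
        have := congrArg (M.presheaf.map (homOfLE hb.ge).op) hx'
        rw [restr_trans, map_zero] at this
        rw [restr_trans]
        exact this)
    refine ⟨n, (M.restrictAppIso hW.fromSpec ⊤).addCommGroupIsoToAddEquiv.injective ?_⟩
    refine (restrict_smul hW M _ htop.le (f ^ n) x).trans ?_
    have h' := congrArg (M.presheaf.map (homOfLE htop.le).op) hn
    rw [map_sc, restr_trans, restr_self, map_zero] at h'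
    exact h'.trans (map_zero _).symm

/-- A presentation on an open subscheme gives one on the over category. -/
noncomputable def presentationOver (M : X.Modules) (U : X.Opens)
    (P : (M.restrict U.ι).Presentation) :
    (SheafOfModules.over (R := X.ringCatSheaf) M U).Presentation :=
  let e := Scheme.Modules.overEquiv U
  let η : e.functor.obj (SheafOfModules.unit (X.ringCatSheaf.over U)) ≅
      SheafOfModules.unit (U : Scheme.{u}).ringCatSheaf :=
    (Scheme.Modules.overFunctorEquiv U).app (SheafOfModules.unit X.ringCatSheaf) ≪≫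
      Scheme.Modules.restrictUnitIso U.ι
  SheafOfModules.Presentation.ofIsIso.{u, u, u}
    (e.inverse.mapIso ((Scheme.Modules.overFunctorEquiv U).app M).symm ≪≫
      (e.unitIso.app _).symm).hom
    (P.map e.inverse ((e.unitIso.app _ ≪≫ e.inverse.mapIso η)))

/-- The criterion. -/
theorem isQCoh_of_locAt (M : X.Modules) {ι : Type u} (W : ι → X.Opens)
    (hW : ∀ a, IsAffineOpen (W a)) (hcov : ⨆ a, W a = ⊤) (h : ∀ a, LocAt M (W a)) :
    Coh.IsQCoh M := by
  have hiso : ∀ a, IsIso (Scheme.Modules.fromTildeΓ (M.restrict (hW a).fromSpec)) := fun a =>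
    (isIso_fromTildeΓ_iff_isLocalizing _).mpr (isLocalizing_of_locAt M (hW a) (h a))
  let P : ∀ a, (M.restrict (W a).ι).Presentation := fun a =>
    SheafOfModules.Presentation.ofIsIso.{u, u, u}
      (((Scheme.Modules.restrictFunctorComp (hW a).isoSpec.hom (hW a).fromSpec).symm ≪≫
        Scheme.Modules.restrictFunctorCongr (hW a).isoSpec_hom_fromSpec).app M).hom
      (Scheme.Modules.presentationRestrict (hW a).isoSpec.hom
        (SheafOfModules.Presentation.ofIsIso.{u, u, u}
          (@asIso _ _ _ _ (Scheme.Modules.fromTildeΓ (M.restrict (hW a).fromSpec)) (hiso a)).hom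
          (presentationTilde.{u} _ .univ (by simp) _ (Submodule.span_eq _))))
  exact SheafOfModules.QuasicoherentData.isQuasicoherent (R := X.ringCatSheaf) (M := M)
    { I := ι
      X := W
      coversTop := by
        rw [Opens.coversTop_iff, IsOpenCover]
        exact hcov
      presentation := fun a => presentationOver M (W a) (P a) }

/-- The criterion on all affine opens. -/
theorem isQCoh_iff (M : X.Modules) :
    Coh.IsQCoh M ↔ ∀ W : X.Opens, IsAffineOpen W → LocAt M W :=
  ⟨fun _ W hW => locAt M hW, fun h => isQCoh_of_locAt M (fun W : X.affineOpens => W.1)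
    (fun W => W.2) (eq_top_iff.mpr fun x _ => by
      obtain ⟨_, ⟨W, hW, rfl⟩, hx, -⟩ :=
        X.isBasis_affineOpens.exists_subset_of_mem_open (Set.mem_univ x) isOpen_univ
      exact Opens.mem_iSup.mpr ⟨⟨W, hW⟩, hx⟩) fun W => h _ W.2⟩

end Groth.Agent.QCohLib
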